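import Groth.Prelude.Def_K0Var
import Mathlib.AlgebraicGeometry.Noetherian
import Mathlib.AlgebraicGeometry.IdealSheaf.Subscheme
import Mathlib.AlgebraicGeometry.Morphisms.FiniteType

/-!
# The class of a Zariski-locally trivial fibration
-/

set_option backward.isDefEq.respectTransparency false
set_option backward.isDefEq.respectTransparency.types false

universe u

open CategoryTheory Limits AlgebraicGeometry TopologicalSpace

namespace Groth.Agent.K0VarLib

variable {k : Type u} [Field k] {X Y F : Scheme.{u}}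
  (pY : Y ⟶ Spec (CommRingCat.of k)) [LocallyOfFiniteType pY] [QuasiCompact pY]
  (pF : F ⟶ Spec (CommRingCat.of k)) [LocallyOfFiniteType pF] [QuasiCompact pF]
  (f : X ⟶ Y) [LocallyOfFiniteType f] [QuasiCompact f]

omit [LocallyOfFiniteType pY] [QuasiCompact pY] [LocallyOfFiniteType pF] [QuasiCompact pF] [LocallyOfFiniteType f]
  [QuasiCompact f] in
/-- Over a morphism into a trivialising open the fibration is a product. -/
theorem exists_iso_of_le {U : Y.Opens} (e : (f ⁻¹ᵁ U).toScheme ≅ pullback (U.ι ≫ pY) pF)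
    (he : e.hom ≫ pullback.fst (U.ι ≫ pY) pF = f ∣_ U) {W : Scheme.{u}} (g : W ⟶ Y)
    (hg : Set.range g ⊆ U) :
    ∃ t : pullback f g ≅ pullback (g ≫ pY) pF, t.hom ≫ pullback.fst (g ≫ pY) pF = pullback.snd f g := by
  let g' : W ⟶ U.toScheme := IsOpenImmersion.lift U.ι g (by rw [Scheme.Opens.range_ι]; exact hg)
  have hg' : g' ≫ U.ι = g := IsOpenImmersion.lift_fac _ _ _
  have hl : Set.range (pullback.fst f g) ⊆ Set.range (f ⁻¹ᵁ U).ι := by
    rintro _ ⟨p, rfl⟩
    rw [Scheme.Opens.range_ι]
    show f (pullback.fst f g p) ∈ U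
    rw [← Scheme.Hom.comp_apply, pullback.condition, Scheme.Hom.comp_apply]
    exact hg ⟨_, rfl⟩
  let l := IsOpenImmersion.lift (f ⁻¹ᵁ U).ι (pullback.fst f g) hl
  have hl' : l ≫ (f ⁻¹ᵁ U).ι = pullback.fst f g := IsOpenImmersion.lift_fac _ _ _
  have sq : IsPullback l (pullback.snd f g) (f ∣_ U) g' := by
    refine IsPullback.of_right ?_ ?_ (isPullback_morphismRestrict f U).flip
    · rw [hl', hg']
      exact IsPullback.of_hasPullback f g
    · rw [← cancel_mono U.ι, Category.assoc, morphismRestrict_ι, ← Category.assoc, hl', Category.assoc, hg',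
        pullback.condition]
  have sq' : IsPullback (l ≫ e.hom) (pullback.snd f g) (pullback.fst (U.ι ≫ pY) pF) g' :=
    sq.of_iso (Iso.refl _) e (Iso.refl _) (Iso.refl _) (by simp) (by simp) (by simp [he]) (by simp)
  have sq'' := sq'.flip.paste_vert (IsPullback.of_hasPullback (U.ι ≫ pY) pF)
  rw [← Category.assoc g', hg'] at sq''
  exact ⟨sq''.isoPullback, sq''.isoPullback_hom_fst⟩

/-- The class of a fibration trivial over the members of a finite family of opens. -/
theorem cl_eq_of_cover (hf : ∀ y : Y, ∃ (U : Y.Opens) (e : (f ⁻¹ᵁ U).toScheme ≅ pullback (U.ι ≫ pY) pF),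
      y ∈ U ∧ e.hom ≫ pullback.fst (U.ι ≫ pY) pF = f ∣_ U) :
    K0Var.cl (f ≫ pY) = K0Var.cl pY * K0Var.cl pF := by
  classical
  choose U e hU he using hf
  haveI : CompactSpace Y := (quasiCompact_iff_compactSpace pY).mp inferInstance
  obtain ⟨s, hs⟩ := isCompact_univ.elim_finite_subcover (fun y => (U y : Set Y)) (fun y => (U y).2)
    fun y _ => Set.mem_iUnion.2 ⟨y, hU y⟩
  have key : ∀ (t : Finset Y) (W : Scheme.{u}) (g : W ⟶ Y) [LocallyOfFiniteType g] [QuasiCompact g],
      Set.range g ⊆ ⋃ y ∈ t, (U y : Set Y) →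
      K0Var.cl (pullback.snd f g ≫ g ≫ pY) = K0Var.cl (g ≫ pY) * K0Var.cl pF := by
    intro t
    induction t using Finset.induction with
    | empty =>
      intro W g _ _ h
      haveI : IsEmpty W := ⟨fun w => by simpa using h ⟨w, rfl⟩⟩
      haveI : IsEmpty (pullback f g : Scheme.{u}) := Function.isEmpty (pullback.snd f g)
      rw [K0Var.cl_eq_gen_cl, K0Var.cl_eq_gen_cl (g ≫ pY)]
      haveI : IsEmpty (K0Var.Gen.mk W (g ≫ pY)).X := ‹IsEmpty W›
      haveI : IsEmpty (K0Var.Gen.mk (pullback f g) (pullback.snd f g ≫ g ≫ pY)).X :=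
        ‹IsEmpty (pullback f g : Scheme.{u})›
      rw [K0Var.Gen.cl_eq_zero_of_isEmpty, K0Var.Gen.cl_eq_zero_of_isEmpty, zero_mul]
    | insert a t ha ih =>
      intro W g _ _ h
      haveI : IsLocallyNoetherian W := LocallyOfFiniteType.isLocallyNoetherian (g ≫ pY)
      let V : W.Opens := g ⁻¹ᵁ U a
      let I : W.IdealSheafData :=
        Scheme.IdealSheafData.vanishingIdeal ⟨(V : Set W)ᶜ, V.2.isClosed_compl⟩
      let i := I.subschemeι
      have hi : Set.range i = (V : Set W)ᶜ := by
        show Set.range I.subschemeι = _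
        rw [Scheme.IdealSheafData.range_subschemeι, Scheme.IdealSheafData.coe_support_vanishingIdeal]
        rfl
      have hr : Set.range i = (Set.range V.ι)ᶜ := by rw [hi, Scheme.Opens.range_ι]
      haveI : QuasiCompact V.ι := inferInstance
      let i' := pullback.fst (pullback.snd f g) i
      let j' := pullback.fst (pullback.snd f g) V.ι
      have hr' : Set.range i' = (Set.range j')ᶜ := by
        rw [Scheme.Pullback.range_fst, Scheme.Pullback.range_fst, hr, Set.preimage_compl]
      haveI : QuasiCompact j' := inferInstance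
      rw [K0Var.cl_scissor (pullback.snd f g ≫ g ≫ pY) i' j' hr', K0Var.cl_scissor (g ≫ pY) i V.ι hr, add_mul]
      congr 1
      · -- the closed piece
        have hsub : Set.range (i ≫ g) ⊆ ⋃ y ∈ t, (U y : Set Y) := by
          rintro _ ⟨z, rfl⟩
          have h1 := h ⟨i z, rfl⟩
          simp only [Finset.mem_insert, Set.mem_iUnion] at h1
          obtain ⟨y, rfl | hy, hyU⟩ := h1
          · exact absurd (show i z ∈ (V : Set W) from hyU) (hi.le ⟨z, rfl⟩)
          · exact Set.mem_biUnion hy hyU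
        refine (K0Var.cl_congr _ _ (pullbackLeftPullbackSndIso f g i) ?_).trans
          ((ih _ (i ≫ g) hsub).trans (congrArg (· * _) (K0Var.cl_congr _ _ (Iso.refl _) ?_)))
        · simp [i', pullback.condition_assoc]
        · simp
      · -- the trivialised piece
        have hsub : Set.range (V.ι ≫ g) ⊆ (U a : Set Y) := by
          rintro _ ⟨v, rfl⟩; exact v.2
        obtain ⟨τ, hτ⟩ := exists_iso_of_le pY pF f (e a) (he a) (V.ι ≫ g) hsub
        refine (K0Var.cl_congr _ _ (pullbackLeftPullbackSndIso f g V.ι ≪≫ τ) ?_).trans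
          ((K0Var.cl_mul ((V.ι ≫ g) ≫ pY) pF).trans (congrArg (· * _) (K0Var.cl_congr _ _ (Iso.refl _) ?_)))
        · simp [j', reassoc_of% hτ, pullback.condition_assoc]
        · simp
  have h := key s Y (𝟙 Y) (fun y _ => hs (Set.mem_univ y))
  simp only [Category.id_comp] at h
  rw [← h]
  exact K0Var.cl_congr _ _ (asIso (pullback.fst f (𝟙 Y))).symm (by simp [pullback.condition_assoc])

end Groth.Agent.K0VarLib
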